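import Mathlib
import Cfsg.Prelude.Def_Local
import Cfsg.Agent.Lib.Helper11.Bender

set_option autoImplicit false

namespace Cfsg.Agent.Lib.Helper10

open Cfsg.Agent.Lib.Helper11

universe u

/-- A subnormal nilpotent subgroup of a finite group lies in the Fitting subgroup. -/
theorem subnormal_nilpotent_le_fitting {G : Type u} [Group G] [Finite G] {S : Subgroup G}
    (hSsn : S.IsSubnormal) (hnil : Group.IsNilpotent S) : S ≤ Cfsg.fittingSubgroup G := by
  rw [← Subgroup.subgroupOf_eq_top, ← Subgroup.index_eq_one]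
  by_contra hidx
  obtain ⟨p, hp, hpd⟩ := Nat.exists_prime_and_dvd hidx
  have : Fact p.Prime := ⟨hp⟩
  obtain ⟨P⟩ := (inferInstance : Nonempty (Sylow p S))
  have hPn : (P : Subgroup S).Normal := inferInstance
  have hPsn : ((P : Subgroup S).map S.subtype).IsSubnormal := by
    refine Subgroup.IsSubnormal.step _ S (Subgroup.map_subtype_le _) hSsn ?_
    have : ((P : Subgroup S).map S.subtype).subgroupOf S = (P : Subgroup S) :=
      Subgroup.comap_map_eq_self_of_injective S.subtype_injective _
    rw [this]; exact hPn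
  have hPp : IsPGroup p ((P : Subgroup S).map S.subtype) := P.isPGroup'.map S.subtype
  have hPle : (P : Subgroup S).map S.subtype ≤ Cfsg.fittingSubgroup G :=
    (subnormal_pGroup_le_pCore p hPsn hPp).trans (pCore_le_fitting p)
  have hPT : (P : Subgroup S) ≤ (Cfsg.fittingSubgroup G).subgroupOf S := by
    intro x hx
    exact Subgroup.mem_subgroupOf.mpr (hPle ⟨x, hx, rfl⟩)
  exact P.not_dvd_index (hpd.trans (Subgroup.index_dvd_of_le hPT))

/-- A nontrivial solvable subgroup has a proper derived subgroup. -/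
theorem commutator_lt_of_solvable {G : Type u} [Group G] {S : Subgroup G}
    (hsol : Group.IsSolvable S) (hne : S ≠ ⊥) : ⁅S, S⁆ < S := by
  refine lt_of_le_of_ne (Subgroup.commutator_le_self S) ?_
  intro h
  have h1 := (Subgroup.isPerfect_iff.mpr h).commutator_eq_top
  have : Nontrivial S := (Subgroup.nontrivial_iff_ne_bot S).2 hne
  exact (Group.IsSolvable.commutator_lt_top_of_nontrivial S).ne h1

/-- A subnormal solvable subgroup centralizing the Fitting subgroup lies in it. -/
theorem subnormal_solvable_le_fitting_of_le_centralizer {G : Type u} [Group G] [Finite G] :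
    ∀ S : Subgroup G, S.IsSubnormal →
      S ≤ Subgroup.centralizer (Cfsg.fittingSubgroup G : Set G) → Group.IsSolvable S →
      S ≤ Cfsg.fittingSubgroup G := by
  by_contra hcon
  push Not at hcon
  obtain ⟨S, hS, hmin⟩ := (wellFounded_lt (α := Subgroup G)).has_min
    {S : Subgroup G | S.IsSubnormal ∧
      S ≤ Subgroup.centralizer (Cfsg.fittingSubgroup G : Set G) ∧ Group.IsSolvable S ∧
      ¬ S ≤ Cfsg.fittingSubgroup G} hcon
  obtain ⟨hSsn, hSC, hSsol, hSF⟩ := hS
  have hSne : S ≠ ⊥ := by rintro rfl; exact hSF bot_le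
  have hlt : ⁅S, S⁆ < S := commutator_lt_of_solvable hSsol hSne
  have hD : ⁅S, S⁆ ≤ Cfsg.fittingSubgroup G := by
    by_contra h
    have hDsn : (⁅S, S⁆ : Subgroup G).IsSubnormal :=
      Subgroup.IsSubnormal.step _ S hlt.le hSsn
        ((Subgroup.normal_subgroupOf_iff_le_normalizer hlt.le).mpr (le_normalizer_commutator_self S))
    have hDsol : Group.IsSolvable (⁅S, S⁆ : Subgroup G) :=
      Group.isSolvable_of_isSolvable_injective (Subgroup.inclusion_injective hlt.le)
    exact hmin _ ⟨hDsn, hlt.le.trans hSC, hDsol, h⟩ hlt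
  have hcc : ⁅S, S⁆ ≤ Subgroup.centralizer (S : Set G) := by
    intro x hx
    rw [Subgroup.mem_centralizer_iff]
    intro s hs
    exact ((Subgroup.mem_centralizer_iff.mp (hSC hs)) x (hD hx)).symm
  have hnil := nilpotent_of_commutator_central S hcc
  exact hSF (subnormal_nilpotent_le_fitting hSsn hnil)

end Cfsg.Agent.Lib.Helper10
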