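import Mathlib
import Cfsg.Agent.Lib.Helper10.WC
import Cfsg.Agent.Lib.Helper10.DihSyl

set_option autoImplicit false
set_option linter.style.haveILetI false

namespace Cfsg.Agent.Lib.Helper10.ZS

open Cfsg Cfsg.Agent.Lib.Helper10

universe u

variable {X : Type u} [Group X]

/-- a `p`-subgroup of a subgroup `C` containing a Sylow `p`-subgroup `S` is `C`-conjugate into
`S` -/
theorem conj_sub_into_sylow [Finite X] {p : ℕ} [Fact p.Prime] (S : Sylow p X) (C : Subgroup X)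
    (hSC : (S : Subgroup X) ≤ C) (B : Subgroup X) (hBC : B ≤ C) (hB : IsPGroup p B) :
    ∃ c ∈ C, ∀ b ∈ B, c⁻¹ * b * c ∈ (S : Subgroup X) := by
  have hpg : IsPGroup p ↥(B.subgroupOf C) := hB.comap_subtype
  obtain ⟨Q, hQ⟩ := hpg.exists_le_sylow
  obtain ⟨c, hc⟩ := MulAction.exists_smul_eq ↥C (S.subtype hSC) Q
  refine ⟨c, c.2, fun b hb => ?_⟩
  have h1 : (⟨b, hBC hb⟩ : ↥C) ∈ Q := hQ (Subgroup.mem_subgroupOf.2 hb)
  rw [← hc, mem_smul_sylow_iff] at h1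
  have h2 : c⁻¹ * (⟨b, hBC hb⟩ : ↥C) * c ∈ ((S : Subgroup X).subgroupOf C) := h1
  rw [Subgroup.mem_subgroupOf] at h2
  simpa using h2

/-- abstract fusion setup: `S` a Sylow `2`-subgroup with an abelian subgroup `A` of index two
(weakly closed), `z` an isolated involution in `Z(S)` -/
structure WSetup (S : Sylow 2 X) (A : Subgroup X) (z a' : X) : Prop where
  hAS : A ≤ (S : Subgroup X)
  comm : ∀ a ∈ A, ∀ b ∈ A, a * b = b * a
  wcl : ∀ g : X, (∀ a ∈ A, g * a * g⁻¹ ∈ (S : Subgroup X)) → ∀ a ∈ A, g * a * g⁻¹ ∈ A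
  sq : ∀ s ∈ (S : Subgroup X), s * s ∈ A
  cen : ∀ v ∈ (S : Subgroup X), (∀ s ∈ (S : Subgroup X), s * v = v * s) → v ∈ A
  cA : ∀ τ ∈ A, τ * τ = 1 → τ ≠ 1 → τ ≠ z → ∀ s ∈ (S : Subgroup X), s * τ = τ * s → s ∈ A
  cB : ∀ τ ∈ (S : Subgroup X), τ ∉ A → τ * τ = 1 → ∀ s₁ ∈ (S : Subgroup X),
    ∀ s₂ ∈ (S : Subgroup X), s₁ * τ = τ * s₁ → s₂ * τ = τ * s₂ → s₁ * s₂ = s₂ * s₁
  conj : ∀ τ₁ ∈ (S : Subgroup X), ∀ τ₂ ∈ (S : Subgroup X), τ₁ ∉ A → τ₂ ∉ A → τ₁ * τ₁ = 1 →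
    τ₂ * τ₂ = 1 → ∃ s ∈ (S : Subgroup X), s * τ₁ * s⁻¹ = τ₂
  inv : ∀ e ∈ A, e * e = 1 → e = 1 ∨ e = a' ∨ e = z ∨ e = a' * z
  ha' : a' ∈ A
  ha'2 : a' * a' = 1
  ha'1 : a' ≠ 1
  ha'z : a' ≠ z
  hzA : z ∈ A
  hzc : ∀ s ∈ (S : Subgroup X), s * z = z * s
  hz : Cfsg.IsIsolatedInvolution z

/-- an element of odd order normalizing `A` centralizes `A` -/
theorem odd_aut_trivial [Finite X] {S : Sylow 2 X} {A : Subgroup X} {z a' : X}
    (w : WSetup S A z a') (m : X) (hm : ∀ a ∈ A, m * a * m⁻¹ ∈ A) (r : ℕ) (hr : Odd r)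
    (hmr : m ^ r = 1) : ∀ a ∈ A, m * a * m⁻¹ = a := by
  have hzz : z * z = 1 := orderOf_two_mul_self w.hz.1
  have hz1 : z ≠ 1 := orderOf_two_ne_one w.hz.1
  have hzfix : m * z * m⁻¹ = z := by
    apply w.hz.2
    exact w.comm z w.hzA _ (hm z w.hzA)
  have hP : ∀ a ∈ A, ∀ c ∈ A, c * c = 1 → m * c * m⁻¹ = c → m * a * m⁻¹ = a * c → c = 1 := by
    intro a ha c hc hcc hmc hma
    have hpow : ∀ i : ℕ, m ^ i * a * (m ^ i)⁻¹ = a * c ^ i := by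
      intro i
      induction i with
      | zero => simp
      | succ i ih =>
        have e1 : m ^ (i + 1) * a * (m ^ (i + 1))⁻¹ = m * (m ^ i * a * (m ^ i)⁻¹) * m⁻¹ := by
          rw [pow_succ']; group
        have e2 : m * (a * c ^ i) * m⁻¹ = (m * a * m⁻¹) * (m * c * m⁻¹) ^ i := by
          rw [conj_pow]; group
        rw [e1, ih, e2, hma, hmc, mul_assoc, ← pow_succ']
    have h1 := hpow r
    rw [hmr, one_mul, inv_one, mul_one] at h1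
    obtain ⟨l, hl⟩ := hr
    have h2 : c ^ r = c := by
      rw [hl, pow_succ, pow_mul, pow_two, hcc, one_pow, one_mul]
    rw [h2] at h1
    exact mul_eq_left.1 h1.symm
  have ha'fix : m * a' * m⁻¹ = a' := by
    have he2 : (m * a' * m⁻¹) * (m * a' * m⁻¹) = 1 := by
      have : (m * a' * m⁻¹) * (m * a' * m⁻¹) = m * (a' * a') * m⁻¹ := by group
      rw [this, w.ha'2]; group
    rcases w.inv _ (hm a' w.ha') he2 with h | h | h | h
    · exfalso; apply w.ha'1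
      have : a' = m⁻¹ * (m * a' * m⁻¹) * m := by group
      rw [this, h]; group
    · exact h
    · exfalso; apply w.ha'z
      have e1 : a' = m⁻¹ * (m * a' * m⁻¹) * m := by group
      have e2 : z = m⁻¹ * (m * z * m⁻¹) * m := by group
      rw [e1, e2, h, hzfix]
    · exfalso
      exact hz1 (hP a' w.ha' z w.hzA hzz hzfix h)
  have hinvfix : ∀ e ∈ A, e * e = 1 → m * e * m⁻¹ = e := by
    intro e he he2
    rcases w.inv e he he2 with rfl | rfl | rfl | rfl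
    · group
    · exact ha'fix
    · exact hzfix
    · have : m * (a' * z) * m⁻¹ = (m * a' * m⁻¹) * (m * z * m⁻¹) := by group
      rw [this, ha'fix, hzfix]
  have hk : ∀ k : ℕ, ∀ a ∈ A, a ^ (2 ^ k) = 1 → m * a * m⁻¹ = a := by
    intro k
    induction k with
    | zero => intro a _ h; rw [pow_zero, pow_one] at h; rw [h]; group
    | succ k ih =>
      intro a ha h
      have hb : m * (a * a) * m⁻¹ = a * a := by
        apply ih (a * a) (mul_mem ha ha)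
        rw [← pow_two, ← pow_mul, ← pow_succ']; exact h
      obtain ⟨c, hc⟩ : ∃ c, c = a⁻¹ * (m * a * m⁻¹) := ⟨_, rfl⟩
      have hcA : c ∈ A := by rw [hc]; exact mul_mem (inv_mem ha) (hm a ha)
      have hcc : c * c = 1 := by
        have h1 : (m * a * m⁻¹) * a⁻¹ = a⁻¹ * (m * a * m⁻¹) :=
          w.comm _ (hm a ha) _ (inv_mem ha)
        have h2 : (m * a * m⁻¹) * (m * a * m⁻¹) = a * a := by
          rw [← hb]; group
        rw [hc]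
        calc a⁻¹ * (m * a * m⁻¹) * (a⁻¹ * (m * a * m⁻¹))
            = a⁻¹ * ((m * a * m⁻¹) * a⁻¹) * (m * a * m⁻¹) := by group
          _ = a⁻¹ * (a⁻¹ * (m * a * m⁻¹)) * (m * a * m⁻¹) := by rw [h1]
          _ = a⁻¹ * a⁻¹ * ((m * a * m⁻¹) * (m * a * m⁻¹)) := by group
          _ = 1 := by rw [h2]; group
      have hmc : m * c * m⁻¹ = c := hinvfix c hcA hcc
      have hma : m * a * m⁻¹ = a * c := by rw [hc]; group
      have hc1 := hP a ha c hcA hcc hmc hma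
      rw [hma, hc1, mul_one]
  intro a ha
  obtain ⟨k, hk'⟩ := S.isPGroup' ⟨a, w.hAS ha⟩
  exact hk k a ha (congrArg Subtype.val hk')

/-- `N(A) = S · C(A)`, elementwise -/
theorem norm_eq_S [Finite X] {S : Sylow 2 X} {A : Subgroup X} {z a' : X}
    (w : WSetup S A z a') (n : X) (hn : n ∈ Subgroup.normalizer (A : Set X)) :
    ∃ s ∈ (S : Subgroup X), ∀ a ∈ A, n * a * n⁻¹ = s * a * s⁻¹ := by
  haveI : Fact (Nat.Prime 2) := ⟨Nat.prime_two⟩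
  obtain ⟨N, hN⟩ : ∃ N : Subgroup X, N = Subgroup.normalizer (A : Set X) := ⟨_, rfl⟩
  obtain ⟨C, hC⟩ : ∃ C : Subgroup X, C = Subgroup.centralizer (A : Set X) := ⟨_, rfl⟩
  have hmemN : ∀ g : X, g ∈ N → ∀ a ∈ A, g * a * g⁻¹ ∈ A := by
    intro g hg a ha
    rw [hN] at hg
    exact (Subgroup.mem_normalizer_iff.1 hg a).1 ha
  have hmemC : ∀ g : X, g ∈ C ↔ ∀ a ∈ A, g * a * g⁻¹ = a := by
    intro g
    rw [hC, Subgroup.mem_centralizer_iff]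
    constructor
    · intro h a ha
      rw [← h a ha, mul_inv_cancel_right]
    · intro h a ha
      have := h a ha
      calc a * g = (g * a * g⁻¹) * g := by rw [this]
        _ = g * a := by group
  have hSN : (S : Subgroup X) ≤ N := by
    intro s hs
    rw [hN]
    apply Cfsg.Agent.Lib.Helper10.mem_normalizer_of_conj_mem_finite
    exact w.wcl s (fun a ha => mul_mem (mul_mem hs (w.hAS ha)) (inv_mem hs))
  haveI hKn : (C.subgroupOf N).Normal := by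
    refine ⟨fun c hc g => ?_⟩
    rw [Subgroup.mem_subgroupOf] at hc ⊢
    rw [hmemC] at hc ⊢
    intro a ha
    have h1 : (g : X)⁻¹ * a * ((g : X)⁻¹)⁻¹ ∈ A := hmemN _ (inv_mem g.2) a ha
    have h2 := hc _ h1
    simp only [Subgroup.coe_mul, Subgroup.coe_inv]
    calc (g : X) * (c : X) * (g : X)⁻¹ * a * ((g : X) * (c : X) * (g : X)⁻¹)⁻¹
        = (g : X) * ((c : X) * ((g : X)⁻¹ * a * ((g : X)⁻¹)⁻¹) * (c : X)⁻¹) * (g : X)⁻¹ := by
          group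
      _ = (g : X) * ((g : X)⁻¹ * a * ((g : X)⁻¹)⁻¹) * (g : X)⁻¹ := by rw [h2]
      _ = a := by group
  have hQ : IsPGroup 2 (↥N ⧸ C.subgroupOf N) := by
    intro q
    obtain ⟨g, rfl⟩ := QuotientGroup.mk_surjective q
    obtain ⟨e, r, hr, ho⟩ := Nat.exists_eq_two_pow_mul_odd (orderOf_pos (g : X)).ne'
    refine ⟨e, ?_⟩
    rw [← QuotientGroup.mk_pow, QuotientGroup.eq_one_iff, Subgroup.mem_subgroupOf, hmemC]
    have hm : ∀ a ∈ A, (g : X) ^ 2 ^ e * a * ((g : X) ^ 2 ^ e)⁻¹ ∈ A :=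
      hmemN _ (pow_mem g.2 _)
    have hmr : ((g : X) ^ 2 ^ e) ^ r = 1 := by
      rw [← pow_mul, ← ho]; exact pow_orderOf_eq_one _
    simpa using odd_aut_trivial w _ hm r hr hmr
  have hsurj : Function.Surjective (QuotientGroup.mk' (C.subgroupOf N)) :=
    QuotientGroup.mk'_surjective _
  have htop : (((S.subtype hSN).mapSurjective hsurj : Sylow 2 (↥N ⧸ C.subgroupOf N)) :
      Subgroup (↥N ⧸ C.subgroupOf N)) = ⊤ := by
    have h1 : IsPGroup 2 ↥(⊤ : Subgroup (↥N ⧸ C.subgroupOf N)) := hQ.to_subgroup ⊤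
    exact (((S.subtype hSN).mapSurjective hsurj).is_maximal' h1 le_top).symm
  have hnN : n ∈ N := by rw [hN]; exact hn
  have h2 : QuotientGroup.mk' (C.subgroupOf N) ⟨n, hnN⟩ ∈
      (((S.subtype hSN).mapSurjective hsurj : Sylow 2 (↥N ⧸ C.subgroupOf N)) :
        Subgroup (↥N ⧸ C.subgroupOf N)) := by rw [htop]; trivial
  obtain ⟨s, hs, hs'⟩ : ∃ s ∈ ((S.subtype hSN : Sylow 2 ↥N) : Subgroup ↥N),
      QuotientGroup.mk' (C.subgroupOf N) s = QuotientGroup.mk' (C.subgroupOf N) ⟨n, hnN⟩ := h2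
  have hsS : (s : X) ∈ (S : Subgroup X) := by
    have : s ∈ (S : Subgroup X).subgroupOf N := hs
    exact Subgroup.mem_subgroupOf.1 this
  have h3 : s⁻¹ * ⟨n, hnN⟩ ∈ C.subgroupOf N := QuotientGroup.eq.1 hs'
  rw [Subgroup.mem_subgroupOf, hmemC] at h3
  refine ⟨s, hsS, fun a ha => ?_⟩
  have h4 := h3 a ha
  simp only [Subgroup.coe_mul, Subgroup.coe_inv] at h4
  calc n * a * n⁻¹ = (s : X) * ((s : X)⁻¹ * n * a * ((s : X)⁻¹ * n)⁻¹) * (s : X)⁻¹ := by group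
    _ = (s : X) * a * (s : X)⁻¹ := by rw [h4]

/-- a conjugate of an element of `Z(S)` lying in `A` is the element itself -/
theorem fus_A [Finite X] {S : Sylow 2 X} {A : Subgroup X} {z a' : X} (w : WSetup S A z a')
    (v : X) (hv : ∀ s ∈ (S : Subgroup X), s * v = v * s) (g : X)
    (hy : g * v * g⁻¹ ∈ A) : g * v * g⁻¹ = v := by
  haveI : Fact (Nat.Prime 2) := ⟨Nat.prime_two⟩
  obtain ⟨y, hydef⟩ : ∃ y, y = g * v * g⁻¹ := ⟨_, rfl⟩
  rw [← hydef] at hy ⊢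
  have hA_C : A ≤ Subgroup.centralizer ({y} : Set X) := by
    intro a ha
    rw [Subgroup.mem_centralizer_singleton_iff]
    exact w.comm a ha y hy
  have hS1 : ((g • S : Sylow 2 X) : Subgroup X) ≤ Subgroup.centralizer ({y} : Set X) := by
    intro x hx
    have hx' : g⁻¹ * x * g ∈ (S : Subgroup X) := (mem_smul_sylow_iff S g x).1 hx
    rw [Subgroup.mem_centralizer_singleton_iff, hydef]
    have h1 := hv _ hx'
    calc x * (g * v * g⁻¹) = g * ((g⁻¹ * x * g) * v) * g⁻¹ := by group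
      _ = g * (v * (g⁻¹ * x * g)) * g⁻¹ := by rw [h1]
      _ = g * v * g⁻¹ * x := by group
  have hA2 : IsPGroup 2 ↥A := S.isPGroup'.to_le w.hAS
  obtain ⟨c, hc, hcA⟩ := conj_sub_into_sylow (g • S) _ hS1 A hA_C hA2
  rw [Subgroup.mem_centralizer_singleton_iff] at hc
  have hkA : ∀ a ∈ A, (g⁻¹ * c⁻¹) * a * (g⁻¹ * c⁻¹)⁻¹ ∈ A := by
    apply w.wcl
    intro a ha
    have h1 := (mem_smul_sylow_iff S g _).1 (hcA a ha)
    have e : (g⁻¹ * c⁻¹) * a * (g⁻¹ * c⁻¹)⁻¹ = g⁻¹ * (c⁻¹ * a * c) * g := by group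
    rw [e]; exact h1
  have hkN : g⁻¹ * c⁻¹ ∈ Subgroup.normalizer (A : Set X) :=
    Cfsg.Agent.Lib.Helper10.mem_normalizer_of_conj_mem_finite hkA
  obtain ⟨s, hs, hsa⟩ := norm_eq_S w _ hkN
  have h1 := hsa y hy
  have h2 : (g⁻¹ * c⁻¹) * y * (g⁻¹ * c⁻¹)⁻¹ = v := by
    have e : (g⁻¹ * c⁻¹) * y * (g⁻¹ * c⁻¹)⁻¹ = g⁻¹ * (c⁻¹ * (y * c)) * g := by group
    rw [e, ← hc, inv_mul_cancel_left, hydef]; group
  rw [h2] at h1
  have h3 : s⁻¹ * v = v * s⁻¹ := hv _ (inv_mem hs)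
  calc y = s⁻¹ * (s * y * s⁻¹) * s := by group
    _ = s⁻¹ * v * s := by rw [← h1]
    _ = v := by rw [h3, inv_mul_cancel_right]

/-- `2`-subgroups centralizing an involution of `S` outside `A` are abelian -/
theorem two_abelian [Finite X] {S : Sylow 2 X} {A : Subgroup X} {z a' : X}
    (w : WSetup S A z a') (τ : X) (hτS : τ ∈ (S : Subgroup X)) (hτA : τ ∉ A) (hτ2 : τ * τ = 1)
    (R : Subgroup X) (hR : IsPGroup 2 R) (hRτ : ∀ ρ ∈ R, ρ * τ = τ * ρ) (hτR : τ ∈ R) :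
    ∀ ρ₁ ∈ R, ∀ ρ₂ ∈ R, ρ₁ * ρ₂ = ρ₂ * ρ₁ := by
  haveI : Fact (Nat.Prime 2) := ⟨Nat.prime_two⟩
  obtain ⟨Q, hQ⟩ := hR.exists_le_sylow
  obtain ⟨k, hk⟩ := MulAction.exists_smul_eq X S Q
  have hmem : ∀ ρ ∈ R, k⁻¹ * ρ * k ∈ (S : Subgroup X) := by
    intro ρ hρ
    have h1 : ρ ∈ Q := hQ hρ
    rw [← hk] at h1
    exact (mem_smul_sylow_iff S k ρ).1 h1
  have hτ1 : τ ≠ 1 := fun h => hτA (h ▸ one_mem A)
  obtain ⟨τ₀, hτ₀⟩ : ∃ τ₀, τ₀ = k⁻¹ * τ * k := ⟨_, rfl⟩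
  have hτ₀S : τ₀ ∈ (S : Subgroup X) := by rw [hτ₀]; exact hmem τ hτR
  have hτ₀2 : τ₀ * τ₀ = 1 := by
    rw [hτ₀]
    have : k⁻¹ * τ * k * (k⁻¹ * τ * k) = k⁻¹ * (τ * τ) * k := by group
    rw [this, hτ2]; group
  have hτ₀1 : τ₀ ≠ 1 := by
    intro h
    apply hτ1
    have : τ = k * τ₀ * k⁻¹ := by rw [hτ₀]; group
    rw [this, h]; group
  have hcomm₀ : ∀ ρ ∈ R, (k⁻¹ * ρ * k) * τ₀ = τ₀ * (k⁻¹ * ρ * k) := by
    intro ρ hρ
    rw [hτ₀]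
    have h1 := hRτ ρ hρ
    calc k⁻¹ * ρ * k * (k⁻¹ * τ * k) = k⁻¹ * (ρ * τ) * k := by group
      _ = k⁻¹ * (τ * ρ) * k := by rw [h1]
      _ = k⁻¹ * τ * k * (k⁻¹ * ρ * k) := by group
  have hfinal : ∀ ρ₁ ∈ R, ∀ ρ₂ ∈ R,
      (k⁻¹ * ρ₁ * k) * (k⁻¹ * ρ₂ * k) = (k⁻¹ * ρ₂ * k) * (k⁻¹ * ρ₁ * k) := by
    intro ρ₁ h1 ρ₂ h2
    by_cases hA : τ₀ ∈ A
    · have hne : τ₀ ≠ z := by
        intro h
        have hτk : τ = k * z * k⁻¹ := by rw [← h, hτ₀]; group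
        have hc : Commute z (k * z * k⁻¹) := by
          rw [← hτk]; exact (w.hzc τ hτS).symm
        have h3 := w.hz.2 k hc
        rw [← hτk] at h3
        exact hτA (h3 ▸ w.hzA)
      exact w.comm _ (w.cA τ₀ hA hτ₀2 hτ₀1 hne _ (hmem ρ₁ h1) (hcomm₀ ρ₁ h1)) _
        (w.cA τ₀ hA hτ₀2 hτ₀1 hne _ (hmem ρ₂ h2) (hcomm₀ ρ₂ h2))
    · exact w.cB τ₀ hτ₀S hA hτ₀2 _ (hmem ρ₁ h1) _ (hmem ρ₂ h2) (hcomm₀ ρ₁ h1) (hcomm₀ ρ₂ h2)
  intro ρ₁ h1 ρ₂ h2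
  have h := hfinal ρ₁ h1 ρ₂ h2
  calc ρ₁ * ρ₂ = k * ((k⁻¹ * ρ₁ * k) * (k⁻¹ * ρ₂ * k)) * k⁻¹ := by group
    _ = k * ((k⁻¹ * ρ₂ * k) * (k⁻¹ * ρ₁ * k)) * k⁻¹ := by rw [h]
    _ = ρ₂ * ρ₁ := by group

/-- a conjugate of an element of `Z(S)` lying in `S` is the element itself -/
theorem fus_S [Finite X] {S : Sylow 2 X} {A : Subgroup X} {z a' : X} (w : WSetup S A z a')
    (v : X) (hvS : v ∈ (S : Subgroup X)) (hv : ∀ s ∈ (S : Subgroup X), s * v = v * s) (g : X)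
    (hyS : g * v * g⁻¹ ∈ (S : Subgroup X)) : g * v * g⁻¹ = v := by
  haveI : Fact (Nat.Prime 2) := ⟨Nat.prime_two⟩
  by_cases hyA : g * v * g⁻¹ ∈ A
  · exact fus_A w v hv g hyA
  exfalso
  obtain ⟨y, hydef⟩ : ∃ y, y = g * v * g⁻¹ := ⟨_, rfl⟩
  rw [← hydef] at hyS hyA
  have hvA : v ∈ A := w.cen v hvS hv
  have hvv : ∀ s ∈ (S : Subgroup X), s * (v * v) = (v * v) * s := by
    intro s hs
    rw [← mul_assoc, hv s hs, mul_assoc, hv s hs, mul_assoc]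
  have hyy : y * y = v * v := by
    have h1 : g * (v * v) * g⁻¹ = y * y := by rw [hydef]; group
    have h2 : g * (v * v) * g⁻¹ ∈ A := by rw [h1]; exact w.sq y hyS
    rw [← h1]; exact fus_A w (v * v) hvv g h2
  obtain ⟨τ, hτdef⟩ : ∃ τ, τ = v⁻¹ * y := ⟨_, rfl⟩
  have hyτ : y = v * τ := by rw [hτdef]; group
  have hτS : τ ∈ (S : Subgroup X) := by rw [hτdef]; exact mul_mem (inv_mem hvS) hyS
  have hτA : τ ∉ A := by
    intro h
    apply hyA; rw [hyτ]; exact mul_mem hvA h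
  have hvy : y * v = v * y := hv y hyS
  have hyv' : y * v⁻¹ = v⁻¹ * y := (show Commute y v from hvy).inv_right.eq
  have hτ2 : τ * τ = 1 := by
    rw [hτdef]
    calc v⁻¹ * y * (v⁻¹ * y) = v⁻¹ * (y * v⁻¹) * y := by group
      _ = v⁻¹ * (v⁻¹ * y) * y := by rw [hyv']
      _ = v⁻¹ * v⁻¹ * (y * y) := by group
      _ = 1 := by rw [hyy]; group
  have hτ1 : τ ≠ 1 := fun h => hτA (h ▸ one_mem A)
  have hvτ : τ * v = v * τ := hv τ hτS
  obtain ⟨B, hBdef⟩ : ∃ B : Subgroup X,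
      B = (S : Subgroup X) ⊓ Subgroup.centralizer ({τ} : Set X) := ⟨_, rfl⟩
  have hB_C : B ≤ Subgroup.centralizer ({y} : Set X) := by
    intro b hb
    rw [hBdef, Subgroup.mem_inf, Subgroup.mem_centralizer_singleton_iff] at hb
    rw [Subgroup.mem_centralizer_singleton_iff, hyτ]
    have h1 := hv b hb.1
    rw [← mul_assoc, h1, mul_assoc, hb.2, mul_assoc]
  have hS1 : ((g • S : Sylow 2 X) : Subgroup X) ≤ Subgroup.centralizer ({y} : Set X) := by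
    intro x hx
    have hx' : g⁻¹ * x * g ∈ (S : Subgroup X) := (mem_smul_sylow_iff S g x).1 hx
    rw [Subgroup.mem_centralizer_singleton_iff, hydef]
    have h1 := hv _ hx'
    calc x * (g * v * g⁻¹) = g * ((g⁻¹ * x * g) * v) * g⁻¹ := by group
      _ = g * (v * (g⁻¹ * x * g)) * g⁻¹ := by rw [h1]
      _ = g * v * g⁻¹ * x := by group
  have hB2 : IsPGroup 2 ↥B := S.isPGroup'.to_le (by rw [hBdef]; exact inf_le_left)
  obtain ⟨c, hc, hcB⟩ := conj_sub_into_sylow (g • S) _ hS1 B hB_C hB2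
  rw [Subgroup.mem_centralizer_singleton_iff] at hc
  obtain ⟨g₁, hg₁def⟩ : ∃ g₁, g₁ = c * g := ⟨_, rfl⟩
  have hg₁v : g₁ * v * g₁⁻¹ = y := by
    have e : g₁ * v * g₁⁻¹ = c * (g * v * g⁻¹) * c⁻¹ := by rw [hg₁def]; group
    rw [e, ← hydef, hc, mul_inv_cancel_right]
  have hg₁B : ∀ b ∈ B, g₁⁻¹ * b * g₁ ∈ (S : Subgroup X) := by
    intro b hb
    have h1 := (mem_smul_sylow_iff S g _).1 (hcB b hb)
    have e : g₁⁻¹ * b * g₁ = g⁻¹ * (c⁻¹ * b * c) * g := by rw [hg₁def]; group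
    rw [e]; exact h1
  have hvB : v ∈ B := by
    rw [hBdef, Subgroup.mem_inf, Subgroup.mem_centralizer_singleton_iff]
    exact ⟨hvS, hvτ.symm⟩
  have hτB : τ ∈ B := by
    rw [hBdef, Subgroup.mem_inf, Subgroup.mem_centralizer_singleton_iff]
    exact ⟨hτS, rfl⟩
  obtain ⟨τ₁, hτ₁def⟩ : ∃ τ₁, τ₁ = g₁⁻¹ * τ * g₁ := ⟨_, rfl⟩
  obtain ⟨v₁, hv₁def⟩ : ∃ v₁, v₁ = g₁⁻¹ * v * g₁ := ⟨_, rfl⟩
  have hτ₁S : τ₁ ∈ (S : Subgroup X) := by rw [hτ₁def]; exact hg₁B τ hτB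
  have hv₁τ₁ : v₁ * τ₁ = v := by
    have e : v₁ * τ₁ = g₁⁻¹ * (v * τ) * g₁ := by rw [hv₁def, hτ₁def]; group
    rw [e, ← hyτ, ← hg₁v]; group
  have hτ₁2 : τ₁ * τ₁ = 1 := by
    have e : τ₁ * τ₁ = g₁⁻¹ * (τ * τ) * g₁ := by rw [hτ₁def]; group
    rw [e, hτ2]; group
  have hτ₁A : τ₁ ∉ A := by
    intro h
    have hv₁A : v₁ ∈ A := by
      have : v₁ = v * τ₁⁻¹ := by rw [← hv₁τ₁]; group
      rw [this]; exact mul_mem hvA (inv_mem h)
    have h1 : g₁⁻¹ * v * g₁⁻¹⁻¹ = v := by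
      apply fus_A w v hv g₁⁻¹
      rw [inv_inv, ← hv₁def]; exact hv₁A
    rw [inv_inv, ← hv₁def] at h1
    rw [h1] at hv₁τ₁
    have hτ₁1 : τ₁ = 1 := mul_eq_left.1 hv₁τ₁
    apply hτ1
    have : τ = g₁ * τ₁ * g₁⁻¹ := by rw [hτ₁def]; group
    rw [this, hτ₁1]; group
  obtain ⟨s, hs, hsτ⟩ := w.conj τ₁ hτ₁S τ hτS hτ₁A hτA hτ₁2 hτ2
  obtain ⟨g₂, hg₂def⟩ : ∃ g₂, g₂ = g₁ * s⁻¹ := ⟨_, rfl⟩
  have hg₂v : g₂ * v * g₂⁻¹ = v * τ := by
    have e : g₂ * v * g₂⁻¹ = g₁ * (s⁻¹ * v * s) * g₁⁻¹ := by rw [hg₂def]; group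
    have h3 : s⁻¹ * v = v * s⁻¹ := hv _ (inv_mem hs)
    rw [e, h3, inv_mul_cancel_right, hg₁v, hyτ]
  have hg₂τ : g₂ * τ * g₂⁻¹ = τ := by
    have e : g₂ * τ * g₂⁻¹ = g₁ * (s⁻¹ * τ * s) * g₁⁻¹ := by rw [hg₂def]; group
    have e2 : s⁻¹ * τ * s = τ₁ := by rw [← hsτ]; group
    rw [e, e2, hτ₁def]; group
  obtain ⟨e, r, hr, ho⟩ := Nat.exists_eq_two_pow_mul_odd (orderOf_pos g₂).ne'
  have hpow : ∀ i : ℕ, g₂ ^ i * v * (g₂ ^ i)⁻¹ = v * τ ^ i := by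
    intro i
    induction i with
    | zero => simp
    | succ i ih =>
      have e1 : g₂ ^ (i + 1) * v * (g₂ ^ (i + 1))⁻¹ = g₂ * (g₂ ^ i * v * (g₂ ^ i)⁻¹) * g₂⁻¹ := by
        rw [pow_succ']; group
      have e2 : g₂ * (v * τ ^ i) * g₂⁻¹ = (g₂ * v * g₂⁻¹) * (g₂ * τ * g₂⁻¹) ^ i := by
        rw [conj_pow]; group
      rw [e1, ih, e2, hg₂v, hg₂τ, mul_assoc, ← pow_succ']
  have hτr : τ ^ r = τ := by
    obtain ⟨l, hl⟩ := hr
    rw [hl, pow_succ, pow_mul, pow_two, hτ2, one_pow, one_mul]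
  obtain ⟨g₃, hg₃def⟩ : ∃ g₃, g₃ = g₂ ^ r := ⟨_, rfl⟩
  have hg₃v : g₃ * v * g₃⁻¹ = v * τ := by rw [hg₃def, hpow r, hτr]
  have hg₃τ : g₃ * τ = τ * g₃ := by
    have h1 : g₂ * τ = τ * g₂ := by
      calc g₂ * τ = (g₂ * τ * g₂⁻¹) * g₂ := by group
        _ = τ * g₂ := by rw [hg₂τ]
    rw [hg₃def]
    exact ((show Commute g₂ τ from h1).pow_left r).eq
  have hg₃pow : g₃ ^ 2 ^ e = 1 := by
    rw [hg₃def, ← pow_mul, mul_comm, ← ho]; exact pow_orderOf_eq_one _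
  obtain ⟨B₀, hB₀def⟩ : ∃ B₀ : Subgroup X, B₀ = Subgroup.zpowers v ⊔ Subgroup.zpowers τ :=
    ⟨_, rfl⟩
  have hB₀S : B₀ ≤ (S : Subgroup X) := by
    rw [hB₀def]
    exact sup_le ((Subgroup.zpowers_le).2 hvS) ((Subgroup.zpowers_le).2 hτS)
  have hB₀2 : IsPGroup 2 ↥B₀ := S.isPGroup'.to_le hB₀S
  have hvB₀ : v ∈ B₀ := by rw [hB₀def]; exact Subgroup.mem_sup_left (Subgroup.mem_zpowers v)
  have hτB₀ : τ ∈ B₀ := by rw [hB₀def]; exact Subgroup.mem_sup_right (Subgroup.mem_zpowers τ)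
  have hB₀τ : ∀ b ∈ B₀, b * τ = τ * b := by
    have : Subgroup.zpowers v ⊔ Subgroup.zpowers τ ≤ Subgroup.centralizer ({τ} : Set X) := by
      refine sup_le ((Subgroup.zpowers_le).2 ?_) ((Subgroup.zpowers_le).2 ?_)
      · rw [Subgroup.mem_centralizer_singleton_iff]; exact hvτ.symm
      · rw [Subgroup.mem_centralizer_singleton_iff]
    intro b hb
    rw [hB₀def] at hb
    exact Subgroup.mem_centralizer_singleton_iff.1 (this hb)
  have hg₃N : ∀ b ∈ B₀, g₃ * b * g₃⁻¹ ∈ B₀ := by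
    have hle : Subgroup.zpowers v ⊔ Subgroup.zpowers τ ≤
        B₀.comap (MulAut.conj g₃).toMonoidHom := by
      refine sup_le ((Subgroup.zpowers_le).2 ?_) ((Subgroup.zpowers_le).2 ?_)
      · rw [Subgroup.mem_comap]
        have : (MulAut.conj g₃).toMonoidHom v = v * τ := by
          simp only [MulEquiv.coe_toMonoidHom, MulAut.conj_apply]; exact hg₃v
        rw [this]; exact mul_mem hvB₀ hτB₀
      · rw [Subgroup.mem_comap]
        have : (MulAut.conj g₃).toMonoidHom τ = τ := by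
          simp only [MulEquiv.coe_toMonoidHom, MulAut.conj_apply]
          rw [hg₃τ, mul_inv_cancel_right]
        rw [this]; exact hτB₀
    intro b hb
    rw [hB₀def] at hb
    have := hle hb
    rw [Subgroup.mem_comap] at this
    simpa using this
  have hg₃norm : g₃ ∈ Subgroup.normalizer (B₀ : Set X) :=
    Cfsg.Agent.Lib.Helper10.mem_normalizer_of_conj_mem_finite hg₃N
  have hZ2 : IsPGroup 2 ↥(Subgroup.zpowers g₃) := by
    obtain ⟨k, -, hk⟩ := (Nat.dvd_prime_pow Nat.prime_two).1 (orderOf_dvd_of_pow_eq_one hg₃pow)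
    apply IsPGroup.of_card (n := k)
    rw [Nat.card_zpowers, hk]
  obtain ⟨R, hRdef⟩ : ∃ R : Subgroup X, R = Subgroup.zpowers g₃ ⊔ B₀ := ⟨_, rfl⟩
  have hR2 : IsPGroup 2 ↥R := by
    rw [hRdef]
    exact IsPGroup.to_sup_of_normal_right' hZ2 hB₀2 ((Subgroup.zpowers_le).2 hg₃norm)
  have hRτ : ∀ ρ ∈ R, ρ * τ = τ * ρ := by
    have : Subgroup.zpowers g₃ ⊔ B₀ ≤ Subgroup.centralizer ({τ} : Set X) := by
      refine sup_le ((Subgroup.zpowers_le).2 ?_) ?_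
      · rw [Subgroup.mem_centralizer_singleton_iff]; exact hg₃τ
      · intro b hb; rw [Subgroup.mem_centralizer_singleton_iff]; exact hB₀τ b hb
    intro ρ hρ
    rw [hRdef] at hρ
    exact Subgroup.mem_centralizer_singleton_iff.1 (this hρ)
  have hτR : τ ∈ R := by rw [hRdef]; exact Subgroup.mem_sup_right hτB₀
  have hvR : v ∈ R := by rw [hRdef]; exact Subgroup.mem_sup_right hvB₀
  have hg₃R : g₃ ∈ R := by rw [hRdef]; exact Subgroup.mem_sup_left (Subgroup.mem_zpowers g₃)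
  have hab := two_abelian w τ hτS hτA hτ2 R hR2 hRτ hτR g₃ hg₃R v hvR
  apply hτ1
  have : v * τ = v := by
    rw [← hg₃v, hab, mul_inv_cancel_right]
  exact mul_eq_left.1 this

end Cfsg.Agent.Lib.Helper10.ZS
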