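import Mathlib
import Cfsg.Agent.Lib.Helper10.WrIso
import Cfsg.Agent.Lib.Helper10.WrC
import Cfsg.Agent.Lib.Helper10.WrE

set_option autoImplicit false
set_option linter.style.haveILetI false

namespace Cfsg.Agent.Lib.Helper10.ZS

open Cfsg Cfsg.Agent.Lib.Helper10

universe u

variable {X : Type u} [Group X]

/-- a wreathed Sylow `2`-subgroup with an isolated central involution gives the abstract
fusion setup -/
theorem wr_setup [Finite X] (S : Sylow 2 X) {n : ℕ} {x y t : ↥(S : Subgroup X)}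
    (d : Wr.Data ↥(S : Subgroup X) n x y t) (z : X) (hzS : z ∈ (S : Subgroup X))
    (hz : Cfsg.IsIsolatedInvolution z) (hzc : ∀ s ∈ (S : Subgroup X), s * z = z * s) :
    WSetup S ((Wr.base d).map (S : Subgroup X).subtype) z
      ((Wr.el n x y (QD.mu n) 0 : ↥(S : Subgroup X)) : X) := by
  have hn1 : 1 ≤ n := by have := d.hn; omega
  have hzz : z * z = 1 := orderOf_two_mul_self hz.1
  have hz1 : z ≠ 1 := orderOf_two_ne_one hz.1
  have hzel : (⟨z, hzS⟩ : ↥(S : Subgroup X)) = Wr.el n x y (QD.mu n) (QD.mu n) := by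
    apply Wr.central_invol d
    · intro s; apply Subtype.ext; exact hzc s s.2
    · apply Subtype.ext; exact hzz
    · intro h; exact hz1 (congrArg Subtype.val h)
  have hmemA : ∀ a : X, a ∈ (Wr.base d).map (S : Subgroup X).subtype ↔
      ∃ h : a ∈ (S : Subgroup X), (⟨a, h⟩ : ↥(S : Subgroup X)) ∈ Wr.base d := by
    intro a
    rw [Subgroup.mem_map]
    constructor
    · rintro ⟨b, hb, rfl⟩; exact ⟨b.2, hb⟩
    · rintro ⟨h, hb⟩; exact ⟨⟨a, h⟩, hb, rfl⟩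
  have hcomm : ∀ a ∈ (Wr.base d).map (S : Subgroup X).subtype,
      ∀ b ∈ (Wr.base d).map (S : Subgroup X).subtype, a * b = b * a := by
    intro a ha b hb
    obtain ⟨ha1, c1, e1, h1⟩ := (hmemA a).1 ha
    obtain ⟨hb1, c2, e2, h2⟩ := (hmemA b).1 hb
    have h3 : (⟨a, ha1⟩ : ↥(S : Subgroup X)) * ⟨b, hb1⟩ = ⟨b, hb1⟩ * ⟨a, ha1⟩ := by
      rw [h1, h2]; exact Wr.el_comm d _ _ _ _
    exact congrArg Subtype.val h3
  refine ⟨?_, hcomm, ?_, ?_, ?_, ?_, ?_, ?_, ?_, ?_, ?_, ?_, ?_, ?_, hzc, hz⟩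
  · intro a ha; exact ((hmemA a).1 ha).1
  · intro g hg a ha
    obtain ⟨U, hUdef⟩ : ∃ U : Subgroup X, U = ((Wr.base d).map (S : Subgroup X).subtype).map
      (MulAut.conj g).toMonoidHom := ⟨_, rfl⟩
    have hUS : U ≤ (S : Subgroup X) := by
      rw [hUdef]
      rintro _ ⟨b, hb, rfl⟩
      simpa using hg b hb
    have hUab : IsMulCommutative U := by
      refine ⟨⟨fun u v => ?_⟩⟩
      apply Subtype.ext
      obtain ⟨u, hu⟩ := u
      obtain ⟨v, hv⟩ := v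
      rw [hUdef] at hu hv
      obtain ⟨b, hb, rfl⟩ := hu
      obtain ⟨c, hc, rfl⟩ := hv
      show (MulAut.conj g).toMonoidHom b * (MulAut.conj g).toMonoidHom c =
        (MulAut.conj g).toMonoidHom c * (MulAut.conj g).toMonoidHom b
      rw [← map_mul, ← map_mul, hcomm b hb c hc]
    have hUcard : Nat.card U = 2 ^ (2 * n) := by
      rw [hUdef, Subgroup.card_map_of_injective (MulAut.conj g).injective,
        Subgroup.card_map_of_injective (Subgroup.subtype_injective _), Wr.card_base d]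
    have hU := Wr.baseG_eq_of_abelian d U hUS hUab hUcard
    have h1 : g * a * g⁻¹ ∈ U := by
      rw [hUdef]
      exact ⟨a, ha, by simp⟩
    rw [hU] at h1
    exact h1
  · intro s hs
    exact (hmemA _).2 ⟨mul_mem hs hs, Wr.sq_mem_base d ⟨s, hs⟩⟩
  · intro v hvS hv
    exact (hmemA v).2 ⟨hvS, Wr.central_mem_base d ⟨v, hvS⟩ (fun s => Subtype.ext (hv s s.2))⟩
  · intro τ hτ hτ2 hτ1 hτz s hs hsτ
    obtain ⟨hτS, hτb⟩ := (hmemA τ).1 hτ
    refine (hmemA s).2 ⟨hs, Wr.cent_invol_base d ⟨τ, hτS⟩ hτb (Subtype.ext hτ2)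
      (fun h => hτ1 (congrArg Subtype.val h)) (fun h => hτz ?_) ⟨s, hs⟩ (Subtype.ext hsτ)⟩
    exact congrArg Subtype.val (h.trans hzel.symm)
  · intro τ hτS hτA hτ2 s₁ hs₁ s₂ hs₂ h1 h2
    exact congrArg Subtype.val (Wr.cent_invol_out d ⟨τ, hτS⟩
      (fun h => hτA ((hmemA τ).2 ⟨hτS, h⟩)) (Subtype.ext hτ2) ⟨s₁, hs₁⟩ ⟨s₂, hs₂⟩
      (Subtype.ext h1) (Subtype.ext h2))
  · intro τ₁ h1 τ₂ h2 h1A h2A h12 h22
    obtain ⟨s, hs⟩ := Wr.invol_out_conj d ⟨τ₁, h1⟩ ⟨τ₂, h2⟩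
      (fun h => h1A ((hmemA τ₁).2 ⟨h1, h⟩)) (fun h => h2A ((hmemA τ₂).2 ⟨h2, h⟩))
      (Subtype.ext h12) (Subtype.ext h22)
    exact ⟨s, s.2, congrArg Subtype.val hs⟩
  · intro e he he2
    obtain ⟨heS, heb⟩ := (hmemA e).1 he
    have hzval : ((Wr.el n x y (QD.mu n) (QD.mu n) : ↥(S : Subgroup X)) : X) = z :=
      congrArg Subtype.val hzel.symm
    rcases Wr.invol_base d ⟨e, heS⟩ heb (Subtype.ext he2) with h | h | h | h
    · left; exact congrArg Subtype.val h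
    · right; left; exact congrArg Subtype.val h
    · right; right; left; rw [← hzval]; exact congrArg Subtype.val h
    · right; right; right; rw [← hzval]; exact congrArg Subtype.val h
  · exact (hmemA _).2 ⟨(Wr.el n x y (QD.mu n) 0).2, Wr.el_mem_base d _ _⟩
  · exact congrArg Subtype.val ((Wr.el_invol_iff d _ _).2 ⟨Or.inr rfl, Or.inl rfl⟩)
  · intro h
    have h1 : Wr.el n x y (QD.mu n) 0 = 1 := Subtype.ext h
    exact QD.mu_ne_zero n hn1 ((Wr.el_eq_one d _ _).1 h1).1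
  · intro h
    have h1 : Wr.el n x y (QD.mu n) 0 = ⟨z, hzS⟩ := Subtype.ext h
    rw [hzel, Wr.el_inj d] at h1
    exact QD.mu_ne_zero n hn1 h1.2.symm
  · exact (hmemA z).2 ⟨hzS, by rw [hzel]; exact Wr.el_mem_base d _ _⟩

end Cfsg.Agent.Lib.Helper10.ZS
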